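import Groth.Prelude.Def_CohB1
import Groth.Agent.PnCoh.Chow.Proper
import Groth.Agent.SegreX.Coord
import Mathlib.AlgebraicGeometry.ProjectiveSpectrum.Basic
import Mathlib.AlgebraicGeometry.Morphisms.Smooth
import Mathlib.RingTheory.Smooth.Basic

/-!
# Charts of projective space over a ring, and smoothness
-/

universe u

open CategoryTheory CategoryTheory.Limits AlgebraicGeometry TopologicalSpace
open HomogeneousLocalization (Away)

noncomputable section

namespace Groth.Agent.H6PnSm

variable (n : ℕ) (k : Type u) [CommRing k]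

local notation "𝒜" => CohB1.polyGrading n k
local notation "T" => (MvPolynomial.X : Fin (n + 1) → MvPolynomial (Fin (n + 1)) k)

theorem X_mem_one (j : Fin (n + 1)) : T j ∈ 𝒜 1 := MvPolynomial.isHomogeneous_X k j

/-- The coordinate `T_j / T_i` on the chart `D₊(T_i)`. -/
def coord (i j : Fin (n + 1)) : Away 𝒜 (T i) :=
  Away.mk 𝒜 (X_mem_one n k i) 1 (T j) (by rw [one_smul]; exact X_mem_one n k j)

/-- The structure map of the chart. -/
def base (i : Fin (n + 1)) : k →+* Away 𝒜 (T i) :=
  (HomogeneousLocalization.fromZeroRingHom 𝒜 _).comp (algebraMap k (𝒜 0))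

/-- Dehomogenisation with respect to `T_i`. -/
def dehom (i : Fin (n + 1)) : MvPolynomial (Fin (n + 1)) k →+* Away 𝒜 (T i) :=
  MvPolynomial.eval₂Hom (base n k i) (coord n k i)

theorem val_base (i : Fin (n + 1)) (c : k) :
    (base n k i c).val = algebraMap (MvPolynomial (Fin (n + 1)) k) _ (MvPolynomial.C c) := by
  show (HomogeneousLocalization.mk _).val = _
  rw [HomogeneousLocalization.val_mk, ← Localization.mk_one_eq_algebraMap]
  rfl

theorem val_coord (i j : Fin (n + 1)) :
    (coord n k i j).val * algebraMap (MvPolynomial (Fin (n + 1)) k) _ (T i) =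
      algebraMap (MvPolynomial (Fin (n + 1)) k) (Localization (Submonoid.powers (T i))) (T j) := by
  rw [coord, HomogeneousLocalization.Away.val_mk, ← Localization.mk_one_eq_algebraMap,
    ← Localization.mk_one_eq_algebraMap, Localization.mk_mul, Localization.mk_eq_mk_iff,
    Localization.r_iff_exists]
  exact ⟨1, by simp [mul_comm]⟩

theorem val_dehom_mul (i : Fin (n + 1)) {m : ℕ} {x : MvPolynomial (Fin (n + 1)) k}
    (hx : x.IsHomogeneous m) :
    (dehom n k i x).val * algebraMap _ _ (T i) ^ m =
      algebraMap (MvPolynomial (Fin (n + 1)) k) (Localization (Submonoid.powers (T i))) x := by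
  classical
  let val : Away 𝒜 (T i) →+* Localization (Submonoid.powers (T i)) := algebraMap _ _
  show val (dehom n k i x) * _ = _
  have hsum := x.as_sum
  rw [hsum, map_sum, map_sum, map_sum, Finset.sum_mul]
  refine Finset.sum_congr rfl fun d hd => ?_
  have hdeg : ∑ j ∈ d.support, d j = m := by
    have := hx (MvPolynomial.mem_support_iff.1 hd)
    rwa [Finsupp.weight_apply, Finsupp.sum, Finset.sum_congr rfl fun j _ => (by simp : d j • (1 : Fin (n+1) → ℕ) j = d j)] at this
  rw [MvPolynomial.monomial_eq, Finsupp.prod, map_mul, map_mul, map_mul, map_prod, map_prod,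
    map_prod, ← hdeg, ← Finset.prod_pow_eq_pow_sum, mul_assoc, ← Finset.prod_mul_distrib]
  congr 1
  · show val (dehom n k i (MvPolynomial.C _)) = _
    rw [dehom, MvPolynomial.eval₂Hom_C]
    exact val_base n k i _
  · refine Finset.prod_congr rfl fun j _ => ?_
    rw [map_pow, map_pow, map_pow, ← mul_pow]
    congr 1
    rw [dehom, MvPolynomial.eval₂Hom_X']
    exact val_coord n k i j

/-- Every element of the chart is the dehomogenisation of a polynomial. -/
theorem surjective_dehom (i : Fin (n + 1)) : Function.Surjective (dehom n k i) := by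
  intro z
  obtain ⟨m, x, hx, rfl⟩ := HomogeneousLocalization.Away.mk_surjective 𝒜 (X_mem_one n k i) z
  refine ⟨x, HomogeneousLocalization.val_injective _ ?_⟩
  have hu : IsUnit (algebraMap (MvPolynomial (Fin (n + 1)) k)
      (Localization (Submonoid.powers (T i))) (T i) ^ m) :=
    (IsLocalization.map_units _ (⟨T i, 1, pow_one _⟩ : Submonoid.powers (T i))).pow m
  refine hu.mul_left_injective ?_
  show _ * _ = _ * _
  rw [val_dehom_mul n k i (by simpa using hx), HomogeneousLocalization.Away.val_mk,
    ← map_pow, ← Localization.mk_one_eq_algebraMap, ← Localization.mk_one_eq_algebraMap,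
    Localization.mk_mul, Localization.mk_eq_mk_iff, Localization.r_iff_exists]
  exact ⟨1, by simp [mul_comm]⟩


variable {n k} {K : Type u} [CommRing K] [Algebra k K]

/-- Evaluation at a vector with `v i = 1`. -/
def evalAt (i : Fin (n + 1)) (v : Fin (n + 1) → K) (hv : v i = 1) : Away 𝒜 (T i) →+* K :=
  (IsLocalization.Away.lift (T i) (S := Localization (Submonoid.powers (T i)))
      (g := MvPolynomial.eval₂Hom (algebraMap k K) v) (by simp [hv])).comp
    (algebraMap (Away 𝒜 (T i)) (Localization (Submonoid.powers (T i))))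

theorem evalAt_base (i : Fin (n + 1)) (v : Fin (n + 1) → K) (hv : v i = 1) :
    (evalAt i v hv).comp (base n k i) = algebraMap k K := by
  refine RingHom.ext fun c => ?_
  simp only [evalAt, RingHom.comp_apply, HomogeneousLocalization.algebraMap_apply, val_base,
    IsLocalization.Away.lift_eq, MvPolynomial.eval₂Hom_C]

theorem evalAt_coord (i : Fin (n + 1)) (v : Fin (n + 1) → K) (hv : v i = 1) (j : Fin (n + 1)) :
    evalAt i v hv (coord n k i j) = v j := by
  have h := congrArg (IsLocalization.Away.lift (T i) (S := Localization (Submonoid.powers (T i)))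
      (g := MvPolynomial.eval₂Hom (algebraMap k K) v) (by simp [hv])) (val_coord n k i j)
  simp only [map_mul, IsLocalization.Away.lift_eq, MvPolynomial.eval₂Hom_X', hv, mul_one] at h
  exact h


variable (n k)

/-- The chart. -/
def chart (i : Fin (n + 1)) : Spec (.of (Away 𝒜 (T i))) ⟶ CohB1.ProjSpace n k :=
  Proj.awayι 𝒜 (T i) (X_mem_one n k i) Nat.one_pos

instance (i : Fin (n + 1)) : IsOpenImmersion (chart n k i) :=
  inferInstanceAs (IsOpenImmersion (Proj.awayι 𝒜 (T i) (X_mem_one n k i) Nat.one_pos))

theorem chart_toSpec (i : Fin (n + 1)) :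
    chart n k i ≫ CohB1.ProjSpace.toSpec n k = Spec.map (CommRingCat.ofHom (base n k i)) := by
  show Proj.awayι 𝒜 (T i) (X_mem_one n k i) Nat.one_pos ≫ Proj.toSpecZero 𝒜 ≫ _ = _
  rw [← Category.assoc, Proj.awayι_toSpecZero, ← Spec.map_comp]
  rfl

theorem mem_range_chart (j : Fin (n + 1)) (x : CohB1.ProjSpace n k) :
    x ∈ Set.range (chart n k j) ↔
      x ∈ ((Proj.basicOpen 𝒜 (T j) : (Proj 𝒜).Opens) : Set (Proj 𝒜)) := by
  rw [← Proj.opensRange_awayι 𝒜 (T j) (X_mem_one n k j) Nat.one_pos]
  rfl


/-- The index set of the chart coordinates. -/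
abbrev Idx (i : Fin (n + 1)) : Type u := ULift.{u} {j : Fin (n + 1) // j ≠ i}

/-- Setting `T_i = 1`. -/
def dh (i : Fin (n + 1)) : MvPolynomial (Fin (n + 1)) k →+* MvPolynomial (Idx n i) k :=
  (MvPolynomial.aeval fun j => if h : j = i then 1 else MvPolynomial.X (ULift.up ⟨j, h⟩)).toRingHom

/-- The coordinates map. -/
def fromChart (i : Fin (n + 1)) : MvPolynomial (Idx n i) k →+* Away 𝒜 (T i) :=
  MvPolynomial.eval₂Hom (base n k i) fun j => coord n k i j.down.1

theorem coord_self (i : Fin (n + 1)) : coord n k i i = 1 :=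
  HomogeneousLocalization.val_injective _ (by
    rw [HomogeneousLocalization.val_one]
    have h := val_coord n k i i
    have hu : IsUnit (algebraMap (MvPolynomial (Fin (n + 1)) k) (Localization (Submonoid.powers (T i))) (T i)) :=
      IsLocalization.map_units _ (⟨T i, 1, pow_one _⟩ : Submonoid.powers (T i))
    exact hu.mul_left_injective (h.trans (_root_.one_mul _).symm))

theorem fromChart_surjective (i : Fin (n + 1)) : Function.Surjective (fromChart n k i) := by
  have h : (fromChart n k i).comp (dh n k i) = dehom n k i := by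
    apply MvPolynomial.ringHom_ext
    · intro c
      simp [fromChart, dh, dehom]
    · intro j
      by_cases hj : j = i
      · subst hj; simp [fromChart, dh, dehom, coord_self]
      · simp [fromChart, dh, dehom, hj]
  intro z
  obtain ⟨x, rfl⟩ := surjective_dehom n k i z
  exact ⟨dh n k i x, congr($h x)⟩

theorem fromChart_injective (i : Fin (n + 1)) : Function.Injective (fromChart n k i) := by
  have hu : IsUnit (dh n k i (T i)) := by simp [dh]
  let L : Localization (Submonoid.powers (T i)) →+* MvPolynomial (Idx n i) k :=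
    IsLocalization.Away.lift (T i) hu
  let val : Away 𝒜 (T i) →+* Localization (Submonoid.powers (T i)) := algebraMap _ _
  have h : (L.comp val).comp (fromChart n k i) = RingHom.id _ := by
    apply MvPolynomial.ringHom_ext
    · intro c
      show L (val (fromChart n k i (MvPolynomial.C c))) = _
      rw [fromChart, MvPolynomial.eval₂Hom_C]
      show L ((base n k i c).val) = _
      rw [val_base, IsLocalization.Away.lift_eq]
      simp [dh]
    · rintro ⟨j, hj⟩
      show L (val (fromChart n k i (MvPolynomial.X (ULift.up ⟨j, hj⟩)))) = _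
      rw [fromChart, MvPolynomial.eval₂Hom_X']
      have h := congrArg L (val_coord n k i j)
      rw [map_mul, IsLocalization.Away.lift_eq, IsLocalization.Away.lift_eq] at h
      have h1 : dh n k i (T i) = 1 := by simp [dh]
      rw [h1, _root_.mul_one] at h
      show L ((coord n k i j).val) = _
      rw [h]
      simp [dh, hj]
  exact fun a b hab => by
    have := congrArg (L.comp val) hab
    rwa [← RingHom.comp_apply, ← RingHom.comp_apply, h] at this


theorem smooth_toSpec : Smooth (CohB1.ProjSpace.toSpec n k) := by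
  refine IsZariskiLocalAtSource.of_iSup_eq_top (fun i => (chart n k i).opensRange) ?_ fun i => ?_
  · refine top_le_iff.1 fun x _ => ?_
    obtain ⟨i, hi⟩ := Opens.mem_iSup.1 ((Proj.iSup_basicOpen_eq_top 𝒜 _
      (SegreX.irrelevant_le_span n k)).ge (Set.mem_univ x))
    exact Opens.mem_iSup.2 ⟨i, (mem_range_chart n k i x).2 hi⟩
  rw [← Scheme.Hom.isoOpensRange_inv_comp, Category.assoc, chart_toSpec]
  haveI : Smooth (Spec.map (CommRingCat.ofHom (base n k i))) := by
    rw [HasRingHomProperty.Spec_iff (P := @Smooth)]
    show (base n k i).Smooth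
    have h : base n k i = (fromChart n k i).comp MvPolynomial.C :=
      RingHom.ext fun c => (MvPolynomial.eval₂Hom_C _ _ c).symm
    rw [h]
    refine RingHom.Smooth.stableUnderComposition _ _ ?_ (RingHom.Smooth.of_bijective
      ⟨fromChart_injective n k i, fromChart_surjective n k i⟩)
    exact RingHom.smooth_algebraMap.2
      (⟨inferInstance, inferInstance⟩ : Algebra.Smooth k (MvPolynomial (Idx n i) k))
  infer_instance

end Groth.Agent.H6PnSm

end
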